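import Cfsg.Agent.INV.SC.Lift
import Cfsg.Agent.INV.SC.Base

/-!
Construction of the group generated by the doubled root groups.
-/

set_option autoImplicit false
set_option linter.unusedSectionVars false
set_option linter.unusedVariables false

namespace CL.SC

open Matrix Subgroup
open scoped commutatorElement

universe v

variable {m : ℕ} [NeZero m] {F : Type v} [Field F] [Finite F] [CharP F 2]
variable {G : Type*} [Group G] [Finite G]
variable {ρ : SL m F →* G} {t : G}
variable {c : F} {ξ : Fin m → Fin m → F × F → G}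

/-- the group generated by the doubled root groups -/
def Gx (ξ : Fin m → Fin m → F × F → G) : Subgroup G := closure {y | ∃ i j r, i ≠ j ∧ y = ξ i j r}

namespace D3

theorem all_x {H : Subgroup (SL m F)} (h : ∀ i j a, i ≠ j → x i j a ∈ H) (g : SL m F) : g ∈ H := by
  refine (closure_le H).2 ?_ (closure_x.ge (mem_top g))
  rintro _ ⟨i, j, a, rfl⟩
  by_cases e : i = j
  · rw [e, x_self]; exact H.one_mem
  · exact h i j a e

theorem mem {i j : Fin m} (h : i ≠ j) (r : F × F) : ξ i j r ∈ Gx ξ :=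
  Subgroup.subset_closure ⟨i, j, r, h, rfl⟩

theorem X_le (hc : Co ρ t c ξ) {i j : Fin m} (h : i ≠ j) : Xt ρ t i j ≤ Gx ξ := fun y hy => by
  obtain ⟨r, rfl⟩ := (hc.mem i j h y).1 hy
  exact mem h r

theorem ρ_mem (hc : Co ρ t c ξ) (a : SL m F) : ρ a ∈ Gx ξ :=
  all_x (H := (Gx ξ).comap ρ) (fun i j a h => by
    rw [mem_comap, ← hc.sub i j h]; exact D3.mem h _) a

theorem til_cj (h : St ρ t) (s : SL m F) (H : Subgroup (SL m F)) :
    til t ((cj s H).map ρ) = cj (ρ s) (til t (H.map ρ)) := by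
  rw [cj_til, ← (h.tc s).eq, mul_inv_cancel_right, cj, cj, Subgroup.map_map, Subgroup.map_map]
  congr 2
  ext a
  simp

theorem zero (hc : Co ρ t c ξ) {i j : Fin m} (h : i ≠ j) : ξ i j 0 = 1 := by
  simpa using hc.add i j h 0 0

theorem comm (h : Rel ρ t) (hc : Co ρ t c ξ) {i j k l : Fin m} (h1 : i ≠ j) (h2 : k ≠ l) (h3 : i ≠ l)
    (h4 : j ≠ k) (r s : F × F) : Commute (ξ i j r) (ξ k l s) :=
  h.comm i j k l h1 h2 h3 h4 _ ((hc.mem i j h1 _).2 ⟨r, rfl⟩) _ ((hc.mem k l h2 _).2 ⟨s, rfl⟩)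

theorem fr {K : Type*} [Field K] [Finite K] [CharP K 2] (hm : 3 ≤ m) (h : St ρ t)
    {π : SL m K →* G} (h1 : (∀ a, π a = 1) → ρ (zz 1) = 1) : Fr π :=
  (normal_SL hm π.ker).resolve_right fun e => one_ne_zero
    ((x_eq_one (zero_ne_la (by omega))).1 (h.fr.eq_one (n := 1) ((pow_two _).trans (x_sq _ _ _))
      (h1 fun a => e.ge (mem_top a))))

end D3

open D3

/-- `aut_row`, `cj_til`, `genr`, `genc`, `map_row_gr`; `range ρ ≤ Gx` -/
theorem Co.can (hm : 3 ≤ m) (h : Rel ρ t) (hc : Co ρ t c ξ) (α : MulAut (SL m F)) (i : Fin m) :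
    til t ((row F i).map (rf ρ α)) ≤ Gx ξ := by
  have k : ∀ (s : SL m F) (H : Subgroup G), H ≤ Gx ξ → cj (ρ s) H ≤ Gx ξ := by
    rintro s H h1 _ ⟨y, hy, rfl⟩
    exact mul_mem (mul_mem (ρ_mem hc s) (h1 hy)) (inv_mem (ρ_mem hc s))
  rw [rf, ← Subgroup.map_map]
  obtain ⟨s, e | e⟩ := aut_row hm α i <;> rw [e, til_cj h.toSt]
  · exact k _ _ ((h.genr 0).trans (iSup₂_le fun j hj => X_le hc hj))
  · exact k _ _ ((h.genc la).trans (iSup₂_le fun j hj => X_le hc hj))

/-- `g` acts as `α`, so `g (Rt i) g⁻¹ = til t (ρ (α (row i)))` -/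
theorem Co.nrm (hm : 3 ≤ m) (h : Rel ρ t) (hc : Co ρ t c ξ) {g : G} (hg : Commute g t) :
    g ∈ normalizer (Gx ξ : Set G) := by
  obtain ⟨α, hα⟩ := h.toSt.ac hm hg
  rw [← cj_eq_iff]
  refine eq_of_le_of_card_ge ?_ (card_cj g _).ge
  conv_lhs => rw [Gx, cj, MonoidHom.map_closure]
  rw [closure_le]
  rintro _ ⟨_, ⟨i, j, r, hij, rfl⟩, rfl⟩
  have h1 : g * ξ i j r * g⁻¹ ∈ cj g (Rt ρ t i) := cj_mem ((hc.mem i j hij _).2 ⟨r, rfl⟩).1
  rw [Rt, cj_til, hg.eq, mul_inv_cancel_right, cj, Subgroup.map_map,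
    show (MulAut.conj g).toMonoidHom.comp ρ = rf ρ α from MonoidHom.ext hα] at h1
  exact hc.can hm h α i h1

/-- `K = QuadraticAlgebra F c 1`, `φ = star` (`θ ↦ θ + 1`); `exists_hom_of_rel`, `normal_SL`
(`ξ i j (1, 0) ≠ 1`), `hom_ext`. -/
theorem Co.fld (hm : 3 ≤ m) (h : Rel ρ t) (hc : Co ρ t c ξ) (hi : ∀ a : F, a * a + a ≠ c) :
    ∃ (K : Type v) (_ : Field K) (_ : Finite K) (_ : CharP K 2) (π : SL m K →* G) (φ : K ≃+* K)
      (ι : F →+* K), Fld ρ t π φ ι := by
  have : Fact (∀ r : F, r ^ 2 ≠ c + 1 * r) := ⟨fun r e => hi r (by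
    rw [← sq, e, one_mul, add_assoc, CharTwo.add_self_eq_zero, add_zero])⟩
  have : Finite (QuadraticAlgebra F c 1) := Finite.of_equiv _ (QuadraticAlgebra.equivProd c 1).symm
  have : CharP (QuadraticAlgebra F c 1) 2 :=
    charP_of_injective_algebraMap QuadraticAlgebra.algebraMap_injective 2
  obtain ⟨π, hπ⟩ := exists_hom_of_rel hm (fun i j (r : QuadraticAlgebra F c 1) => ξ i j (r.re, r.im))
    (fun i j h a b => hc.add i j h (a.re, a.im) (b.re, b.im))
    (fun i j k l h1 h2 h3 h4 a b => comm h hc h1 h2 h3 h4 _ _) fun i j k h1 h2 h3 a b => by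
      rw [hc.tri i j k h1 h2 h3, qm]
      simp [mul_assoc]
  have emb : ∀ a, π (Matrix.SpecialLinearGroup.map (algebraMap F _) a) = ρ a :=
    DFunLike.congr_fun (hom_ext (f := π.comp (Matrix.SpecialLinearGroup.map (algebraMap F _)))
      fun i j a h => by rw [MonoidHom.comp_apply, map_x, hπ i j h, ← hc.sub i j h]; rfl)
  have rg : π.range = Gx ξ := by
    refine le_antisymm ?_ ((closure_le _).2 ?_)
    · rintro _ ⟨a, rfl⟩
      exact all_x (H := (Gx ξ).comap π) (fun i j a h => by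
        rw [mem_comap, hπ i j h]; exact D3.mem h _) a
    · rintro _ ⟨i, j, r, h, rfl⟩
      exact ⟨x i j ⟨r.1, r.2⟩, hπ i j h _⟩
  refine ⟨QuadraticAlgebra F c 1, inferInstance, inferInstance, inferInstance, π, starRingAut,
    algebraMap F _, h.toSt, by rw [Nat.card_congr (QuadraticAlgebra.equivProd c 1), Nat.card_prod, sq],
    fr hm h.toSt fun e => by rw [← emb, e], fun e => ?_, RingEquiv.ext fun a => star_star a, ?_, emb,
    fun g hg => rg ▸ hc.nrm hm h hg⟩
  · simpa using congrArg QuadraticAlgebra.re (DFunLike.congr_fun e ⟨0, 1⟩)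
  · exact DFunLike.congr_fun (hom_ext (f := tw t π) (g := rf π (CL.SC.fld starRingAut)) fun i j a h => by
      rw [tw_apply, rf_apply, fld_x, hπ i j h, hπ i j h, hc.act i j h]
      simp [CharTwo.neg_eq])

/-- `e1 = (a, 1)`, `e2 = (a + 1, 1)` are orthogonal idempotents exchanged by `t`;
`π (x i j b) = ξ i j (b a, b)`.  Opposite root elements of different factors commute:
`ξ i j (b e1) = [ξ i k (b e1), ξ k j e1]`. -/
theorem Co.wr (hm : 3 ≤ m) (h : Rel ρ t) (hc : Co ρ t c ξ) {a : F} (ha : a * a + a = c) :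
    ∃ π : SL m F →* G, Wr ρ t π := by
  have two : (2 : F) = 0 := CharTwo.two_eq_zero
  have q1 : ∀ b b', qm c (b * a, b) (b' * a, b') = (b * b' * a, b * b') := fun b b' =>
    Prod.ext (by simp only [qm]; linear_combination (-b * b') * ha + (b * b' * a * a) * two)
      (by simp only [qm]; linear_combination (b * b' * a) * two)
  have q2 : ∀ b b', qm c (b * a, b) (b' * a + b', b') = 0 := fun b b' =>
    Prod.ext (by simp only [qm, Prod.fst_zero]; linear_combination (b * b') * ha + (b * b' * c) * two)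
      (by simp only [qm, Prod.snd_zero]; linear_combination (b * b' * a + b * b') * two)
  have q3 : ∀ b b', qm c (b' * a + b', b') (b * a, b) = 0 := fun b b' =>
    Prod.ext (by simp only [qm, Prod.fst_zero]; linear_combination (b * b') * ha + (b * b' * c) * two)
      (by simp only [qm, Prod.snd_zero]; linear_combination (b * b' * a + b * b') * two)
  obtain ⟨π, hπ⟩ := exists_hom_of_rel hm (fun i j (b : F) => ξ i j (b * a, b))
    (fun i j h b b' => by rw [← hc.add i j h, add_mul]; rfl)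
    (fun i j k l h1 h2 h3 h4 a b => comm h hc h1 h2 h3 h4 _ _) fun i j k h1 h2 h3 b b' => by
      rw [hc.tri i j k h1 h2 h3, q1]
  have hτ : ∀ i j, i ≠ j → ∀ b, tw t π (x i j b) = ξ i j (b * a + b, b) := fun i j h b => by
    rw [tw_apply, hπ i j h, hc.act i j h]
  have c0 : ∀ {y z : G}, y * z * y⁻¹ * z⁻¹ = 1 → Commute y z := fun e =>
    mul_inv_eq_iff_eq_mul.1 (mul_inv_eq_one.1 e)
  have c1 : ∀ i j k l, i ≠ j → k ≠ l → i ≠ l ∨ j ≠ k → ∀ b b',
      Commute (ξ i j (b * a, b)) (ξ k l (b' * a + b', b')) := fun i j k l h1 h2 h3 b b' => by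
    by_cases e1 : i = l
    · subst e1
      have h4 := (h3.resolve_left (not_not.2 rfl)).symm
      exact (c0 (by rw [hc.tri k i j h2 h1 h4, q3, zero hc h4])).symm
    by_cases e2 : j = k
    · subst e2
      exact c0 (by rw [hc.tri i j l h1 h2 e1, q2, zero hc e1])
    exact comm h hc h1 h2 e1 e2 _ _
  have c2 : ∀ i j k l, i ≠ j → k ≠ l → ∀ b b',
      Commute (ξ i j (b * a, b)) (ξ k l (b' * a + b', b')) := fun i j k l h1 h2 b b' => by
    by_cases e : i ≠ l ∨ j ≠ k
    · exact c1 i j k l h1 h2 e b b'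
    obtain ⟨rfl, rfl⟩ : i = l ∧ j = k := by simpa using e
    obtain ⟨n, n1, n2⟩ := exists_third hm i j
    have d1 := c1 i n j i n1.symm h2 (Or.inr n2) b b'
    have d2 := c1 n j j i n2 h2 (Or.inl n1) 1 b'
    rw [← mul_one b, ← q1, ← hc.tri i n j n1.symm n2 h1]
    exact ((d1.mul_left d2).mul_left d1.inv_left).mul_left d2.inv_left
  have cm : ∀ y z, Commute (π y) (tw t π z) := fun y z => mem_centralizer_singleton_iff.1
    (all_x (H := (centralizer {tw t π z}).comap π) (fun i j b h1 => mem_centralizer_singleton_iff.2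
      (mem_centralizer_singleton_iff.1 (all_x (H := (centralizer {π (x i j b)}).comap (tw t π))
        (fun k l b' h2 => mem_centralizer_singleton_iff.2 (by
          rw [hπ i j h1, hτ k l h2]; exact (c2 i j k l h1 h2 b b').symm.eq)) z)).symm) y)
  have dg : ∀ y, π y * tw t π y = ρ y := DFunLike.congr_fun (hom_ext
    (f := MonoidHom.mk' (fun y => π y * tw t π y) fun y z => by
      rw [map_mul, map_mul, (cm z y).mul_mul_mul_comm]) fun i j b h => by
    change π _ * tw t π _ = _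
    rw [hπ i j h, hτ i j h, ← hc.add i j h, ← hc.sub i j h]
    congr 1
    exact Prod.ext (by simp only [Prod.fst_add]; linear_combination (b * a) * two)
      (by simp only [Prod.snd_add]; linear_combination b * two))
  have rg : G0 t π = Gx ξ := by
    refine le_antisymm (sup_le ?_ ?_) ((closure_le _).2 ?_)
    · rintro _ ⟨y, rfl⟩
      exact all_x (H := (Gx ξ).comap π) (fun i j a h => by
        rw [mem_comap, hπ i j h]; exact D3.mem h _) y
    · rintro _ ⟨y, rfl⟩
      exact all_x (H := (Gx ξ).comap (tw t π)) (fun i j a h => by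
        rw [mem_comap, hτ i j h]; exact D3.mem h _) y
    · rintro _ ⟨i, j, r, h, rfl⟩
      have := mul_mem_sup (MonoidHom.mem_range.2 ⟨_, hπ i j h (r.2 + (r.1 + r.2 * a))⟩)
        (MonoidHom.mem_range.2 ⟨_, hτ i j h (r.1 + r.2 * a)⟩)
      rw [← hc.add i j h] at this
      rwa [show ((r.2 + (r.1 + r.2 * a)) * a, r.2 + (r.1 + r.2 * a)) +
        ((r.1 + r.2 * a) * a + (r.1 + r.2 * a), r.1 + r.2 * a) = r from Prod.ext
        (by simp only [Prod.fst_add]; linear_combination (r.2 * a + (r.1 + r.2 * a) * a) * two)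
        (by simp only [Prod.snd_add]; linear_combination (r.1 + r.2 * a) * two)] at this
  exact ⟨π, h.toSt, fr hm h.toSt fun e => by rw [← dg, tw_apply, e]; simp, cm, dg,
    fun g hg => rg ▸ hc.nrm hm h hg, fun α => rg ▸ hc.can hm h α 0⟩

end CL.SC
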