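import Cfsg.Agent.INV.SC.K0
import Cfsg.Prelude.Def_ClassificationK
import Cfsg.Agent.S2401
import Cfsg.Agent.SIG.FStar
import Cfsg.Agent.SIG.Std
import Cfsg.Agent.INV.Four
import Cfsg.Agent.SOLV.Core

/-!
Frames from the Steinberg presentation; the initial configuration.
-/

set_option autoImplicit false
set_option linter.unusedSectionVars false
set_option linter.unusedVariables false

namespace CL.SC

open Matrix Subgroup
open scoped commutatorElement

variable {m : ℕ} [NeZero m] {F : Type*} [Field F] [Finite F] [CharP F 2]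
variable {G : Type*} [Group G] [Finite G]

/-- Steinberg presentation (S2401, `PresentedGroup.toGroup`). -/
theorem exists_hom_of_rel (hm : 3 ≤ m) (y : Fin m → Fin m → F → G)
    (hadd : ∀ i j, i ≠ j → ∀ a b, y i j (a + b) = y i j a * y i j b)
    (hcomm : ∀ i j k l, i ≠ j → k ≠ l → i ≠ l → j ≠ k → ∀ a b, Commute (y i j a) (y k l b))
    (htri : ∀ i j k, i ≠ j → j ≠ k → i ≠ k → ∀ a b,
      y i j a * y j k b * (y i j a)⁻¹ * (y j k b)⁻¹ = y i k (a * b)) :
    ∃ π : SL m F →* G, ∀ i j, i ≠ j → ∀ a, π (x i j a) = y i j a := by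
  obtain ⟨e, he⟩ := Cfsg.Agent.S2401.result (K := F) m hm
  refine ⟨(PresentedGroup.toGroup (f := fun p => y p.1.1.1 p.1.1.2 p.2) ?_).comp
    e.symm.toMonoidHom, fun i j hij a => ?_⟩
  · rintro r ((⟨a, t, u, rfl⟩ | ⟨a, b, t, u, h1, h2, rfl⟩) | ⟨a, b, h, t, u, h2, rfl⟩)
    · simp only [map_mul, map_inv, FreeGroup.lift_apply_of]
      rw [hadd _ _ a.2, mul_inv_cancel]
    · simp only [map_mul, map_inv, FreeGroup.lift_apply_of]
      rw [(hcomm _ _ _ _ a.2 b.2 h1 h2 t u).eq]
      group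
    · simp only [map_mul, map_inv, FreeGroup.lift_apply_of]
      obtain ⟨⟨i, j⟩, hij⟩ := a
      obtain ⟨⟨k, l⟩, hkl⟩ := b
      dsimp only at h h2 hij hkl ⊢
      subst h2
      rw [htri _ _ _ hij hkl h, mul_inv_cancel]
  · have h1 : e (PresentedGroup.of (⟨(i, j), hij⟩, a)) = x i j a := by
      apply Subtype.ext
      rw [he, x_val hij]
      rfl
    rw [← h1]
    simp only [MonoidHom.comp_apply, MulEquiv.coe_toMonoidHom, MulEquiv.symm_apply_apply,
      PresentedGroup.toGroup.of]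

section lifts

variable {H P : Type*} [Group H] [Group P] {p : H →* P}

theorem Lf.uniq (hc : p.ker ≤ center H) (ho : ∀ c ∈ p.ker, c * c = 1 → c = 1) {y y' : H}
    (hy : y * y = 1) (hy' : y' * y' = 1) (h : p y = p y') : y = y' := by
  have h1 : y⁻¹ * y' ∈ p.ker := by
    rw [MonoidHom.mem_ker, map_mul, map_inv, h, inv_mul_cancel]
  have h2 := mem_center_iff.1 (hc h1) y
  have h3 : y⁻¹ = y := inv_eq_of_mul_eq_one_right hy
  refine inv_mul_eq_one.1 (ho _ h1 ?_)
  rw [h3] at h2 ⊢
  rw [← mul_assoc, ← h2, ← mul_assoc, hy, one_mul, hy']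

theorem Lf.comm (hc : p.ker ≤ center H) (ho : ∀ c ∈ p.ker, c * c = 1 → c = 1) {y y' : H}
    (hy' : y' * y' = 1) (h : Commute (p y) (p y')) : Commute y y' := by
  have h1 : y * y' * y⁻¹ = y' := by
    refine Lf.uniq hc ho ?_ hy' ?_
    · calc y * y' * y⁻¹ * (y * y' * y⁻¹) = y * (y' * y') * y⁻¹ := by group
        _ = 1 := by rw [hy']; group
    · rw [map_mul, map_mul, map_inv, h.eq, mul_inv_cancel_right]
  exact mul_inv_eq_iff_eq_mul.1 h1

theorem Lf.mul_sq (hc : p.ker ≤ center H) (ho : ∀ c ∈ p.ker, c * c = 1 → c = 1) {y y' : H}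
    (hy : y * y = 1) (hy' : y' * y' = 1) (h : Commute (p y) (p y')) : y * y' * (y * y') = 1 := by
  have h1 := (Lf.comm hc ho hy' h).eq
  calc y * y' * (y * y') = y * (y' * y) * y' := by group
    _ = y * y * (y' * y') := by rw [← h1]; group
    _ = 1 := by rw [hy, hy', one_mul]

theorem Lf.exists [Finite H] (hs : Function.Surjective p) (ho : Odd (Nat.card p.ker)) {u : P}
    (hu : u * u = 1) : ∃ y, y * y = 1 ∧ p y = u := by
  obtain ⟨w, rfl⟩ := hs u
  obtain ⟨k, hk⟩ := ho
  have h1 : w * w ∈ p.ker := by rw [MonoidHom.mem_ker, map_mul, hu]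
  have h2 : (w * w) ^ Nat.card p.ker = 1 :=
    congrArg Subtype.val (pow_card_eq_one' (x := (⟨w * w, h1⟩ : p.ker)))
  refine ⟨w ^ Nat.card p.ker, ?_, ?_⟩
  · rw [← (Commute.refl w).mul_pow, h2]
  · rw [map_pow, hk, pow_succ, pow_mul, pow_two, hu, one_pow, one_mul]

end lifts

/-- Every root element of `PSL` has a unique lift `y` with `y * y = 1` (`Z` is central of odd
order).  Relations: if `H/Z` is a 2-group then the 2-elements of `H` form a subgroup (normal Sylow
subgroup) meeting `Z` trivially; directly: if involutions `y, y'` commute modulo `Z` then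
`y y' y⁻¹ = c y'`, `c ^ 2 = 1`, `c = 1`; and `[y, y'] = c y''` with `y''` commuting with `y, y'`
gives `1 = [y * y, y'] = (c y'') ^ 2 = c ^ 2`.  The composite with the quotient map is the natural
map (`hom_ext`), the range supplements `Z`, so it is `L` as `L` is perfect. -/
theorem exists_frame (hm : 3 ≤ m) (L : Subgroup G) (Z : Subgroup L) [Z.Normal] (hZ : Z ≤ center L)
    (hodd : Odd (Nat.card Z)) (hperf : commutator L = ⊤)
    (e : (L ⧸ Z) ≃* ProjectiveSpecialLinearGroup (Fin m) F) :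
    ∃ ρ : SL m F →* G, Fr ρ ∧ ρ.range = L := by
  let p : L →* ProjectiveSpecialLinearGroup (Fin m) F :=
    e.toMonoidHom.comp (QuotientGroup.mk' Z)
  let q : SL m F →* ProjectiveSpecialLinearGroup (Fin m) F := QuotientGroup.mk' (center _)
  have hk : p.ker = Z := by
    ext l
    simp [p]
  have hs : Function.Surjective p := e.surjective.comp (QuotientGroup.mk'_surjective Z)
  have hc : p.ker ≤ center L := hk ▸ hZ
  have hodd' : Odd (Nat.card p.ker) := hk ▸ hodd
  have ho : ∀ c ∈ p.ker, c * c = 1 → c = 1 := by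
    intro c hc h
    have h1 : orderOf c ∣ 2 := orderOf_dvd_of_pow_eq_one (by rw [pow_two, h])
    have h2 : orderOf c ∣ Nat.card p.ker := Subgroup.orderOf_dvd_natCard _ hc
    exact orderOf_eq_one_iff.1
      (Nat.eq_one_of_dvd_coprimes (Nat.coprime_two_left.2 hodd') h1 h2)
  have hx : ∀ (i j : Fin m) (a : F), ∃ y : L, y * y = 1 ∧ p y = q (x i j a) := fun i j a =>
    Lf.exists hs hodd' (by rw [← map_mul, x_sq, map_one])
  choose y hy2 hy using hx
  obtain ⟨π, hπ⟩ := exists_hom_of_rel hm y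
    (fun i j hij a b => by
      refine Lf.uniq hc ho (hy2 _ _ _) (Lf.mul_sq hc ho (hy2 _ _ _) (hy2 _ _ _) ?_) ?_
      · rw [hy, hy]
        exact (x_comm hij hij.symm a b).map q
      · rw [map_mul, hy, hy, hy, x_add, map_mul])
    (fun i j k l hij hkl h1 h2 a b => Lf.comm hc ho (hy2 _ _ _) (by
      rw [hy, hy]
      exact (x_comm h1 h2 a b).map q))
    (fun i j k hij hjk hik a b => by
      have h1 : p (y i j a * y j k b * (y i j a)⁻¹ * (y j k b)⁻¹) = q (x i k (a * b)) := by
        rw [← x_tri hij hjk hik]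
        simp only [map_mul, map_inv, hy]
      refine Lf.uniq hc ho ?_ (hy2 _ _ _) (by rw [h1, hy])
      have h2 : y i j a * y j k b * (y i j a)⁻¹ * (y j k b)⁻¹ =
          y i j a * (y j k b * (y i j a)⁻¹ * (y j k b)⁻¹) := by group
      rw [h2] at h1 ⊢
      refine Lf.mul_sq hc ho (hy2 _ _ _) ?_ ?_
      · calc y j k b * (y i j a)⁻¹ * (y j k b)⁻¹ * (y j k b * (y i j a)⁻¹ * (y j k b)⁻¹)
            = y j k b * (y i j a * y i j a)⁻¹ * (y j k b)⁻¹ := by group
          _ = 1 := by rw [hy2]; group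
      · rw [map_mul] at h1
        rw [← inv_mul_cancel_left (p (y i j a)) (p (_ * _ * _)), h1, hy]
        exact (Commute.refl _).inv_right.mul_right ((x_comm hik hij.symm a (a * b)).map q))
  have hq : p.comp π = q := hom_ext fun i j a hij => by
    rw [MonoidHom.comp_apply, hπ i j hij, hy]
  have hq' : ∀ s, p (π s) = q s := fun s => DFunLike.congr_fun hq s
  refine ⟨L.subtype.comp π, fun a ha => ?_, le_antisymm ?_ ?_⟩
  · have h1 : π a = 1 := Subtype.ext ha
    have h2 := hq' a
    rw [h1, map_one] at h2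
    exact (QuotientGroup.eq_one_iff a).1 h2.symm
  · rintro _ ⟨a, rfl⟩
    exact (π a).2
  · have h1 : ∀ l : L, ∃ s, ∃ c ∈ center L, l = π s * c := by
      intro l
      obtain ⟨s, hs⟩ := QuotientGroup.mk'_surjective (center (SL m F)) (p l)
      refine ⟨s, (π s)⁻¹ * l, hc ?_, by group⟩
      rw [MonoidHom.mem_ker, map_mul, map_inv, hq', ← hs]
      exact inv_mul_cancel _
    have h2 : commutator L ≤ π.range := by
      rw [_root_.commutator_def, commutator_le]
      intro l _ l' _
      obtain ⟨s, c, hc, rfl⟩ := h1 l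
      obtain ⟨s', c', hc', rfl⟩ := h1 l'
      refine ⟨⁅s, s'⁆, ?_⟩
      have h3 := mem_center_iff.1 hc
      have h4 := mem_center_iff.1 hc'
      rw [map_commutatorElement, commutatorElement_def, commutatorElement_def]
      calc π s * π s' * (π s)⁻¹ * (π s')⁻¹
          = π s * (π s' * c * c⁻¹) * ((π s)⁻¹ * c' * c'⁻¹) * (π s')⁻¹ := by group
        _ = π s * (c * π s' * c⁻¹) * (c' * (π s)⁻¹ * c'⁻¹) * (π s')⁻¹ := by rw [h3, h4]
        _ = π s * c * π s' * (c⁻¹ * c') * (π s)⁻¹ * c'⁻¹ * (π s')⁻¹ := by group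
        _ = π s * c * π s' * (c' * c⁻¹) * (π s)⁻¹ * c'⁻¹ * (π s')⁻¹ := by rw [h4]
        _ = _ := by group
    intro l hl
    obtain ⟨s, hs⟩ := h2 (hperf ▸ mem_top (⟨l, hl⟩ : L))
    exact ⟨s, congrArg Subtype.val hs⟩

/-- `O(L)` is a proper normal subgroup of the quasisimple group `L`, so central.  `t` is an
involution of `K = C(L)` (even order); `g ∈ C(t)` gives `t ∈ K ⊓ K^g`, so `g ∈ N(K) = N(L)`;
two commuting involutions of `K` lie in a cyclic Sylow subgroup of `K`. -/
theorem exists_st (hm : 3 ≤ m) (L : Subgroup G) (hL : Cfsg.IsStandardSubgroup L)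
    (hR : ∀ R : Sylow 2 ↥(centralizer (L : Set G)),
      IsCyclic ↥(R : Subgroup ↥(centralizer (L : Set G))))
    (e : (↥L ⧸ Cfsg.oddCore ↥L) ≃* ProjectiveSpecialLinearGroup (Fin m) F) :
    ∃ (ρ : SL m F →* G) (t : G), St ρ t := by
  have hperf : commutator L = ⊤ := hL.1.1.commutator_eq_top
  have hZ : Cfsg.oddCore L ≤ center L := by
    have hs := hL.1.2
    rcases hs.eq_bot_or_eq_top_of_normal ((Cfsg.oddCore L).map (QuotientGroup.mk' (center L)))
      (Subgroup.Normal.map inferInstance _ (QuotientGroup.mk'_surjective _)) with h | h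
    · rwa [Subgroup.map_eq_bot_iff, QuotientGroup.ker_mk'] at h
    · exfalso
      have h1 : ∀ l : L, ∃ o ∈ Cfsg.oddCore L, ∃ c ∈ center L, l = o * c := by
        intro l
        obtain ⟨o, ho, hol⟩ := (h ▸ mem_top (QuotientGroup.mk' (center L) l) :
          QuotientGroup.mk' (center L) l ∈ (Cfsg.oddCore L).map (QuotientGroup.mk' (center L)))
        exact ⟨o, ho, o⁻¹ * l, QuotientGroup.eq.1 hol, by group⟩
      have h2 : commutator L ≤ Cfsg.oddCore L := by
        rw [_root_.commutator_def, commutator_le]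
        intro l _ l' _
        obtain ⟨o, ho, c, hc, rfl⟩ := h1 l
        have h3 := mem_center_iff.1 hc l'
        have h4 : ⁅o * c, l'⁆ = o * (l' * o⁻¹ * l'⁻¹) := by
          rw [commutatorElement_def]
          calc o * c * l' * (o * c)⁻¹ * l'⁻¹ = o * (c * l') * c⁻¹ * o⁻¹ * l'⁻¹ := by group
            _ = _ := by rw [← h3]; group
        rw [h4]
        exact mul_mem ho (Subgroup.Normal.conj_mem inferInstance _ (inv_mem ho) _)
      obtain ⟨a, -, ha⟩ := exists_three (F := F) (m := m) (by omega)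
      apply ha
      obtain ⟨l, hl⟩ := QuotientGroup.mk_surjective (e.symm (QuotientGroup.mk a))
      have h5 : (l : L ⧸ Cfsg.oddCore L) = 1 :=
        (QuotientGroup.eq_one_iff l).2 (h2 (hperf ▸ mem_top l))
      rw [h5, eq_comm, MulEquiv.map_eq_one_iff] at hl
      exact (QuotientGroup.eq_one_iff a).1 hl
  obtain ⟨ρ, hρ, hr⟩ := exists_frame hm L (Cfsg.oddCore L) hZ
    (Nat.coprime_two_right.1 (CL.coprime_card_pPrimeCore 2 L)) hperf e
  have : Fact (Nat.Prime 2) := ⟨Nat.prime_two⟩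
  obtain ⟨t, ht⟩ := exists_prime_orderOf_dvd_card' (G := centralizer (L : Set G)) 2
    (even_iff_two_dvd.1 hL.2.1.1)
  have ht' : orderOf (t : G) = 2 := by rw [Subgroup.orderOf_coe, ht]
  refine ⟨ρ, t, hρ, ht', fun a => ?_, fun g hg => ?_, fun k hk h2 => ?_⟩
  · exact (mem_centralizer_iff.1 t.2 (ρ a) (hr ▸ ⟨a, rfl⟩ : ρ a ∈ L)).symm
  · rw [hr]
    exact CL.Std.cent_le_norm hL ht' t.2 (mem_centralizer_singleton_iff.2 hg.eq)
  · by_contra hne
    push Not at hne
    have hkK : k ∈ centralizer (L : Set G) := by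
      rw [mem_centralizer_iff]
      intro l hl
      obtain ⟨a, rfl⟩ : l ∈ ρ.range := hr ▸ hl
      exact (hk.2 a).symm.eq
    have hk2 : orderOf (⟨k, hkK⟩ : centralizer (L : Set G)) = 2 :=
      orderOf_eq_prime (Subtype.ext (by rw [pow_two]; exact h2))
        (fun h => hne.1 (congrArg Subtype.val h))
    have hV := CL.Four.isKleinFour_closure hk2 ht (fun h => hne.2 (congrArg Subtype.val h))
      (Subtype.ext hk.1.eq)
    obtain ⟨R, hR'⟩ := (IsPGroup.of_card (p := 2) (n := 2) hV.card_four).exists_le_sylow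
    have := hR R
    exact hV.not_isCyclic (Subgroup.isCyclic_of_le hR')

/-- `C(F*(G)) ≤ F*(G)` (landed: search generalizedFitting centralizer) and the centre of a
non-abelian simple group is trivial. -/
theorem al_of (hF : IsSimpleGroup ↥(Cfsg.generalizedFittingSubgroup G))
    (hF' : ¬ IsMulCommutative ↥(Cfsg.generalizedFittingSubgroup G)) :
    Al (Cfsg.generalizedFittingSubgroup G) := by
  refine ⟨CL.Comp.fstar_normal, hF, hF', ?_⟩
  rw [eq_bot_iff]
  intro c hc
  have h1 : c ∈ Cfsg.generalizedFittingSubgroup G := CL.Comp.centralizer_fstar_le hc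
  rcases hF.eq_bot_or_eq_top_of_normal (center _) inferInstance with h | h
  · have h2 : (⟨c, h1⟩ : Cfsg.generalizedFittingSubgroup G) ∈ center _ :=
      mem_center_iff.2 fun g => Subtype.ext (mem_centralizer_iff.1 hc g g.2)
    rw [h, mem_bot] at h2
    exact congrArg Subtype.val h2
  · exact absurd ⟨⟨fun a b => mem_center_iff.1 (h ▸ mem_top b) a⟩⟩ hF'

end CL.SC
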